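import Cfsg.Agent.Omega.NO3b.ZP.BetaTwo.Plug
import Cfsg.Agent.Omega.NO3b.ZP.Bridge
import Cfsg.Agent.Omega.NO3b.BetaTwo.Main

/-!
# THEOREM BETA2 (bb #20914) for `Z ≤ Ω₁(Z(S))` (`BetaTwo/Main.lean`)

* `beta2` : at a member `L` of the chain every panel with `⟨Z^H⟩` not FF has `⟨Z^H⟩ ≤ O₂(C_G(Z))`;
* `last_ff` : at the last member `⟨Z^H⟩` is FF for every panel.
-/

set_option autoImplicit false

namespace Cfsg.Agent.Omega.NO3b.ZP

open Subgroup Cfsg
open Cfsg.Agent.ZN (o2 zc zl)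
open Cfsg.Agent.ZN.ChoiceBase hiding mem_zc
open Cfsg.Agent.Omega.NO3b.EZero (NotFF cl)

universe u

variable {G : Type u} [Group G] [Finite G] {S : Sylow 2 G} {Z L F T X : Subgroup G}

/-- **THEOREM BETA2** -/
theorem beta2 (h : Stage S Z L) (hc : IsCharacteristicTwoType G)
    (f : Fl S (VL (S : Subgroup G) Z L) F T) (hZ : Z ≤ F)
    (p : Par S (VL (S : Subgroup G) Z L) F T X) (hn : NotFF (cl Z (nx (S : Subgroup G) Z L X))) :
    cl Z (nx (S : Subgroup G) Z L X) ≤ o2 (centralizer (Z : Set G)) := by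
  by_contra hV
  obtain ⟨F₁, t, h1, h2⟩ := exists_bt h hc f hZ p (noOver hc (h.lines hc) f p) hn hV
  have e : normalizer (((S : Subgroup G) ⊓ centralizer (VL (S : Subgroup G) Z L : Set G) : Subgroup G) : Set G) =
      ML (S : Subgroup G) Z L := by
    rw [h.toRoot.cs_V]
    rfl
  rw [e] at t
  exact t.false (le_refl (nx (S : Subgroup G) Z L X)) le_sup_left le_sup_right h1 h2

/-- At the last member of the chain `⟨Z^H⟩` is FF for every panel. -/
theorem last_ff (h : Stage S Z L) (hc : IsCharacteristicTwoType G)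
    (hl : ∀ F T X, ¬ Step S Z L F T X) (f : Fl S (VL (S : Subgroup G) Z L) F T) (hZ : Z ≤ F)
    (p : Par S (VL (S : Subgroup G) Z L) F T X) : ¬ NotFF (cl Z (nx (S : Subgroup G) Z L X)) := by
  intro hn
  rcases last_or hc h hl f hZ p with h1 | h1
  · exact h1 hn
  · exact h1 (beta2 h hc f hZ p hn)

end Cfsg.Agent.Omega.NO3b.ZP
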